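import Groth.Agent.S1229
import Groth.Agent.FlatMor.FlatAtBC
import Groth.Agent.S6928

/-!
# The flattening ideal along a subset of the closed fibre: algebraic part
-/

set_option autoImplicit false
set_option linter.style.haveILetI false

universe u

open TensorProduct IsLocalRing Groth.Agent.FlatLocusIdeal

attribute [local instance] Algebra.TensorProduct.rightAlgebra

namespace Groth.Agent.FlatLocusE

/-- Base changes of a module vanishing at a prime are flat above it. -/
theorem good_of_localization {A B : Type u} [CommRing A] [CommRing B] [Algebra A B] (q : Ideal B) [q.IsPrime]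
    (N : Type u) [AddCommGroup N] [Module B N] [Module A N] [IsScalarTower A B N]
    [Subsingleton (LocalizedModule q.primeCompl N)] (A' : Type u) [CommRing A'] [IsLocalRing A'] [Algebra A A'] :
    Good A q N A' := by
  intro Q _ hQq _
  haveI : Algebra.IsPushout A B A' (A' ⊗[A] B) := Algebra.IsPushout.symm inferInstance
  exact FlatMor.FlatAtBC.flatAt_of_baseChange (R := A) (S := B) (R' := A') (S' := A' ⊗[A] B) (M := N)
    (M' := (A' ⊗[A] B) ⊗[B] N) (TensorProduct.mk B (A' ⊗[A] B) N 1) (TensorProduct.isBaseChange B N (A' ⊗[A] B)) q Q hQq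
    (inferInstance : Module.Flat A (LocalizedModule q.primeCompl N))

/-- The flattening ideal at a point of the closed fibre of a finite type algebra. -/
theorem exists_ideal {A B : Type u} [CommRing A] [HenselianLocalRing A] [CommRing B] [Algebra A B]
    [Algebra.FiniteType A B] (N : Type u) [AddCommGroup N] [Module B N] [Module A N] [IsScalarTower A B N]
    [Module.Finite B N] (q : Ideal B) [q.IsPrime] [q.LiesOver (maximalIdeal A)] :
    ∃ I : Ideal A, ∀ (A' : Type u) [CommRing A'] [IsLocalRing A'] [Algebra A A'] [IsLocalHom (algebraMap A A')],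
      Good A q N A' ↔ I.map (algebraMap A A') = ⊥ := by
  rcases subsingleton_or_nontrivial (LocalizedModule q.primeCompl N) with h | h
  · exact ⟨⊥, fun A' _ _ _ _ => iff_of_true (good_of_localization q N A') Ideal.map_bot⟩
  · let Bq := Localization.AtPrime q
    have hq : (maximalIdeal Bq).comap (algebraMap B Bq) = q := IsLocalization.AtPrime.under_maximalIdeal Bq q
    haveI : IsLocalHom (algebraMap A Bq) := by
      refine ((IsLocalRing.local_hom_TFAE (algebraMap A Bq)).out 4 0).mp ?_
      refine Eq.trans ?_ (q.over_def (maximalIdeal A)).symm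
      rw [IsScalarTower.algebraMap_eq A B Bq, ← Ideal.comap_comap, hq]
    let l := LocalizedModule.mkLinearMap q.primeCompl N
    have hspan : Submodule.span Bq (Set.range l) = ⊤ := top_le_iff.mp fun m _ => by
      obtain ⟨⟨n, s⟩, rfl⟩ : ∃ p : N × q.primeCompl, LocalizedModule.mk p.1 p.2 = m := by
        induction m using LocalizedModule.induction_on with | h n s => exact ⟨(n, s), rfl⟩
      have : LocalizedModule.mk n s = (Localization.mk 1 s : Bq) • l n := by
        show _ = Localization.mk 1 s • LocalizedModule.mk n 1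
        rw [LocalizedModule.mk_smul_mk, one_smul, mul_one]
      show LocalizedModule.mk n s ∈ _
      rw [this]
      exact Submodule.smul_mem _ _ (Submodule.subset_span ⟨n, rfl⟩)
    haveI : Module.Finite Bq (LocalizedModule q.primeCompl N) :=
      Module.Finite.of_isLocalizedModule q.primeCompl l
    obtain ⟨x, hx, hx'⟩ := Groth.Agent.S1229.mem_support (A := A) (S := B) (B := Bq) (N := N)
      (M := LocalizedModule q.primeCompl N) l hspan
    exact Groth.Agent.S1229.hasIdeal_of_supp (A := A) (S := B) N q ⟨x, hx, hx'.trans (by congr 1)⟩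

/-- Flatness along a closed subset of the closed fibre holds at a stage of a colimit. -/
theorem exists_stage_along {A B : Type u} [CommRing A] [IsLocalRing A] [CommRing B] [Algebra A B]
    [Algebra.FinitePresentation A B] (N : Type u) [AddCommGroup N] [Module B N] [Module A N] [IsScalarTower A B N]
    [Module.FinitePresentation B N] (J : Ideal B)
    {ι : Type u} [Preorder ι] (G : ι → Type u) [∀ i, CommRing (G i)] [∀ i, IsLocalRing (G i)] [∀ i, Algebra A (G i)]
    (g : ∀ i j, i ≤ j → G i →+* G j) (hgR : ∀ i j (h : i ≤ j), (g i j h).comp (algebraMap A (G i)) = algebraMap A (G j))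
    (R' : Type u) [CommRing R'] [IsLocalRing R'] [Algebra A R'] [IsLocalHom (algebraMap A R')]
    [∀ i, Algebra (G i) R'] [∀ i, IsScalarTower A (G i) R']
    (hcolim : FlatCA.IsDirectedColimitRing G g R')
    (hmG : ∀ i, (maximalIdeal A).map (algebraMap A (G i)) = maximalIdeal (G i))
    (hmR : (maximalIdeal A).map (algebraMap A R') = maximalIdeal R') (i₀ : ι)
    (h : ∀ (q : Ideal B) [q.IsPrime], q.comap (algebraMap A B) = maximalIdeal A → J ≤ q → Good A q N R') :
    ∃ i, ∀ (q : Ideal B) [q.IsPrime], q.comap (algebraMap A B) = maximalIdeal A → J ≤ q → Good A q N (G i) := by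
  haveI : Algebra.IsPushout A B R' (R' ⊗[A] B) := Algebra.IsPushout.symm inferInstance
  have hB : FlatCA.EssFinitePresentation A B :=
    ⟨B, inferInstance, inferInstance, Algebra.id B, inferInstance, ⊥, inferInstance,
      IsLocalization.self fun m hm => (Submonoid.mem_bot.mp hm) ▸ isUnit_one⟩
  obtain ⟨i, hi⟩ := Groth.Agent.S6928.result hB (M := N) G g hgR R' hcolim
    (fun i => (maximalIdeal A).map (algebraMap A (G i)))
    (fun i j h => by rw [Ideal.map_map, hgR])
    (S' := R' ⊗[A] B) (M' := (R' ⊗[A] B) ⊗[B] N)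
    (TensorProduct.mk B (R' ⊗[A] B) N 1) (TensorProduct.isBaseChange B N (R' ⊗[A] B)) J
    (fun Q _ hle => by
      obtain ⟨hleA, hleJ⟩ := sup_le_iff.mp hle
      have hQm : Q.comap (algebraMap R' (R' ⊗[A] B)) = maximalIdeal R' := by
        refine (IsLocalRing.le_maximalIdeal (Ideal.comap_ne_top _ (Ideal.IsPrime.ne_top inferInstance))).antisymm ?_
        rw [← hmR, ← Ideal.map_le_iff_le_comap]
        refine le_trans (Ideal.map_mono ?_) hleA
        refine le_trans ?_ (le_iSup (fun i : ι => ((maximalIdeal A).map (algebraMap A (G i))).map (algebraMap (G i) R')) i₀)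
        rw [Ideal.map_map, ← IsScalarTower.algebraMap_eq]
      refine h (Q.comap (algebraMap B _)) ?_ (Ideal.map_le_iff_le_comap.mp hleJ) Q rfl hQm
      rw [Ideal.comap_comap, ← IsScalarTower.algebraMap_eq,
        IsScalarTower.algebraMap_eq A R' (R' ⊗[A] B), ← Ideal.comap_comap, hQm, IsLocalRing.maximalIdeal_comap])
  refine ⟨i, fun q _ _ hJq Q _ hQq hQm => ?_⟩
  haveI : Algebra.IsPushout A B (G i) ((G i) ⊗[A] B) := Algebra.IsPushout.symm inferInstance
  exact hi ((G i) ⊗[A] B) (((G i) ⊗[A] B) ⊗[B] N) (TensorProduct.mk B ((G i) ⊗[A] B) N 1)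
    (TensorProduct.isBaseChange B N ((G i) ⊗[A] B)) Q
    (sup_le (by rw [hmG]; exact Ideal.map_le_iff_le_comap.mpr hQm.ge)
      (Ideal.map_le_iff_le_comap.mpr (hQq.symm ▸ hJq)))

/-- Finite generation of the flattening ideal along a closed subset of the closed fibre. -/
theorem fg_of_stages {A B : Type u} [CommRing A] [IsLocalRing A] [CommRing B] [Algebra A B]
    [Algebra.FinitePresentation A B] (N : Type u) [AddCommGroup N] [Module B N] [Module A N] [IsScalarTower A B N]
    [Module.FinitePresentation B N] (I : Ideal A) (J : Ideal B)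
    (hI : ∀ (A' : Type u) [CommRing A'] [IsLocalRing A'] [Algebra A A'] [IsLocalHom (algebraMap A A')],
      (∀ (q : Ideal B) [q.IsPrime], q.comap (algebraMap A B) = maximalIdeal A → J ≤ q → Good A q N A') ↔
        I.map (algebraMap A A') = ⊥) : I.FG := by
  classical
  by_cases hI' : I = ⊤
  · exact hI' ▸ Module.Finite.fg_top
  haveI : Nontrivial (A ⧸ I) := Ideal.Quotient.nontrivial_iff.mpr hI'
  haveI : IsLocalRing (A ⧸ I) := IsLocalRing.of_surjective' (Ideal.Quotient.mk I) Ideal.Quotient.mk_surjective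
  haveI : IsLocalHom (algebraMap A (A ⧸ I)) := IsLocalHom.of_surjective _ Ideal.Quotient.mk_surjective
  let ι := {K : Ideal A // K.FG ∧ K ≤ I}
  haveI : ∀ i : ι, IsLocalRing (A ⧸ i.1) := fun i =>
    haveI : Nontrivial (A ⧸ i.1) := Ideal.Quotient.nontrivial_iff.mpr fun h => hI' (top_le_iff.mp (h ▸ i.2.2))
    IsLocalRing.of_surjective' (Ideal.Quotient.mk i.1) Ideal.Quotient.mk_surjective
  haveI : ∀ i : ι, IsLocalHom (algebraMap A (A ⧸ i.1)) := fun i =>
    IsLocalHom.of_surjective _ Ideal.Quotient.mk_surjective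
  letI : ∀ i : ι, Algebra (A ⧸ i.1) (A ⧸ I) := fun i => (Ideal.Quotient.factor i.2.2).toAlgebra
  haveI : ∀ i : ι, IsScalarTower A (A ⧸ i.1) (A ⧸ I) := fun i => IsScalarTower.of_algebraMap_eq fun a => rfl
  have hcolim := Groth.Agent.S1229.isColimit_fg I fun i a => rfl
  have hmax : ∀ K : Ideal A, ∀ [IsLocalRing (A ⧸ K)], IsLocalHom (algebraMap A (A ⧸ K)) →
      (maximalIdeal A).map (algebraMap A (A ⧸ K)) = maximalIdeal (A ⧸ K) := fun K _ hloc => by
    haveI := hloc
    have h := IsLocalRing.maximalIdeal_comap (algebraMap A (A ⧸ K))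
    conv_rhs => rw [← Ideal.map_comap_of_surjective (algebraMap A (A ⧸ K)) Ideal.Quotient.mk_surjective
      (maximalIdeal (A ⧸ K)), h]
  have hR : I.map (algebraMap A (A ⧸ I)) = ⊥ := by rw [Ideal.Quotient.algebraMap_eq, Ideal.map_quotient_self]
  obtain ⟨i, hi⟩ := exists_stage_along (A := A) (B := B) N J (fun i : ι => A ⧸ i.1)
    (fun i j h => Ideal.Quotient.factor (show i.1 ≤ j.1 from h))
    (fun i j h => RingHom.ext fun a => rfl) (A ⧸ I) hcolim
    (fun i => hmax i.1 inferInstance) (hmax I inferInstance) ⟨⊥, Submodule.fg_bot, bot_le⟩ ((hI (A ⧸ I)).mpr hR)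
  have h1 : I.map (algebraMap A (A ⧸ i.1)) = ⊥ := (hI (A ⧸ i.1)).mp hi
  rw [Ideal.Quotient.algebraMap_eq, Ideal.map_eq_bot_iff_le_ker, Ideal.mk_ker] at h1
  exact (le_antisymm h1 i.2.2) ▸ i.2.1

end Groth.Agent.FlatLocusE
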