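import Groth.Agent.FlatLocusE.Stalk
import Groth.Agent.QCoh.FiniteType
import Groth.Agent.Props.QFP

/-!
# The flattening ideal along a subset of the closed fibre (EGA IV 11 / RG I 4.1)
-/

set_option autoImplicit false
set_option linter.style.haveILetI false

universe u

open CategoryTheory CategoryTheory.Limits AlgebraicGeometry TopologicalSpace Opposite
open scoped TensorProduct
open Groth.Agent.AssSch.Stalk

attribute [local instance] Algebra.TensorProduct.rightAlgebra

namespace Groth.Agent.FlatLocusE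

variable {A : Type u} [CommRing A] {X : Scheme.{u}}

/-- The map of the base to the local ring of a point of the new base. -/
noncomputable def baseHom {T : Scheme.{u}} (g : T ⟶ Spec (CommRingCat.of A)) (t : T) :
    CommRingCat.of A ⟶ T.presheaf.stalk t :=
  (Scheme.ΓSpecIso (CommRingCat.of A)).inv ≫ g.appTop ≫ T.presheaf.germ ⊤ t trivial

theorem specMap_baseHom {T : Scheme.{u}} (g : T ⟶ Spec (CommRingCat.of A)) (t : T) :
    Spec.map (baseHom g t) = T.fromSpecStalk t ≫ g := by
  rw [baseHom, Spec.map_comp, Spec.map_comp, ← Scheme.fromSpecStalk_toSpecΓ, Category.assoc, Category.assoc,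
    ← Scheme.toSpecΓ_naturality_assoc, ← SpecMap_ΓSpecIso_hom, ← Spec.map_comp, Iso.inv_hom_id, Spec.map_id,
    Category.comp_id]

/-- The condition of flatness of the base changes along a set. -/
def FlatAlong (f : X ⟶ Spec (CommRingCat.of A)) (F : X.Modules) (E : Set X) (I : Ideal A) [IsLocalRing A] : Prop :=
  ∀ (T : Scheme.{u}) (g : T ⟶ Spec (CommRingCat.of A)) (t : T), g.base t = IsLocalRing.closedPoint A →
    ((∀ x' : ↑(pullback f g), (pullback.snd f g).base x' = t → (pullback.fst f g).base x' ∈ E →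
        FlatMod.IsFlatOverAt (pullback.snd f g) ((Scheme.Modules.pullback (pullback.fst f g)).obj F) x') ↔
      I ≤ RingHom.ker (baseHom g t).hom)

/-- The set of test algebras on a chart. -/
theorem flat_iff_good [IsLocalRing A] (f : X ⟶ Spec (CommRingCat.of A)) (F : X.Modules) [F.IsQuasicoherent]
    {U : X.Opens} (hU : IsAffineOpen U) (φ : CommRingCat.of A ⟶ Γ(X, U)) (hφ : Spec.map φ = hU.fromSpec ≫ f)
    {T : Scheme.{u}} (g : T ⟶ Spec (CommRingCat.of A)) (t : T) (x : X) (hx : x ∈ U) :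
    letI := φ.hom.toAlgebra
    letI := (baseHom g t).hom.toAlgebra
    letI : Module A Γ(F, U) := Module.compHom _ φ.hom
    haveI : IsScalarTower A Γ(X, U) Γ(F, U) := IsScalarTower.of_algebraMap_smul fun _ _ => rfl
    (∀ x' : ↑(pullback f g), (pullback.snd f g).base x' = t → (pullback.fst f g).base x' = x →
        FlatMod.IsFlatOverAt (pullback.snd f g) ((Scheme.Modules.pullback (pullback.fst f g)).obj F) x') ↔
      Groth.Agent.FlatLocusIdeal.Good A (primeOf hU x hx) Γ(F, U) (T.presheaf.stalk t) := by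
  letI := φ.hom.toAlgebra
  letI := (baseHom g t).hom.toAlgebra
  letI : Module A Γ(F, U) := Module.compHom _ φ.hom
  haveI : IsScalarTower A Γ(X, U) Γ(F, U) := IsScalarTower.of_algebraMap_smul fun _ _ => rfl
  constructor
  · intro h Q hQ hQq hQm
    let k := chartMap hU φ hφ t (baseHom g t) (specMap_baseHom g t)
    haveI : Mono k := mono_chartMap hU φ hφ t (baseHom g t) (specMap_baseHom g t)
    obtain ⟨h1, h2⟩ := chartMap_point hU φ hφ t (baseHom g t) (specMap_baseHom g t) ⟨Q, hQ⟩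
    have h1' : (pullback.fst f g) (k ⟨Q, hQ⟩) = x := by
      rw [h1, show PrimeSpectrum.comap (algebraMap Γ(X, U) (T.presheaf.stalk t ⊗[A] Γ(X, U))) ⟨Q, hQ⟩ = hU.primeIdealOf ⟨x, hx⟩ from PrimeSpectrum.ext hQq]
      exact hU.fromSpec_primeIdealOf _
    have h2' : (pullback.snd f g) (k ⟨Q, hQ⟩) = t := by
      rw [h2, show PrimeSpectrum.comap (algebraMap (T.presheaf.stalk t) (T.presheaf.stalk t ⊗[A] Γ(X, U))) ⟨Q, hQ⟩ = IsLocalRing.closedPoint (T.presheaf.stalk t) from PrimeSpectrum.ext hQm]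
      exact Scheme.fromSpecStalk_closedPoint
    obtain ⟨P, hP, -, -, hflat⟩ := exists_prime_chart hU φ hφ t (baseHom g t) (specMap_baseHom g t) F (k ⟨Q, hQ⟩) h2'
      (by rw [h1']; exact hx)
    have hPQ : P = ⟨Q, hQ⟩ := k.injective hP
    subst hPQ
    exact hflat.mp (h _ h2' h1')
  · intro h x' hs hf
    subst hf
    obtain ⟨P, -, hPq, hPm, hflat⟩ := exists_prime_chart hU φ hφ t (baseHom g t) (specMap_baseHom g t) F x' hs hx
    exact hflat.mpr (h P.asIdeal hPq hPm)

/-- The ring map of an affine chart. -/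
theorem exists_chartHom (f : X ⟶ Spec (CommRingCat.of A)) {U : X.Opens} (hU : IsAffineOpen U) :
    ∃ φ : CommRingCat.of A ⟶ Γ(X, U), Spec.map φ = hU.fromSpec ≫ f :=
  ⟨Spec.preimage (hU.fromSpec ≫ f), Spec.map_preimage _⟩

/-- Points over the closed point give primes over the maximal ideal. -/
theorem primeOf_comap [IsLocalRing A] (f : X ⟶ Spec (CommRingCat.of A)) {U : X.Opens} (hU : IsAffineOpen U)
    (φ : CommRingCat.of A ⟶ Γ(X, U)) (hφ : Spec.map φ = hU.fromSpec ≫ f) (x : X) (hx : x ∈ U) :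
    f.base x = IsLocalRing.closedPoint A ↔ (primeOf hU x hx).comap φ.hom = IsLocalRing.maximalIdeal A := by
  have h : (Spec.map φ) (hU.primeIdealOf ⟨x, hx⟩) = f.base x := by
    rw [hφ]
    show f.base (hU.fromSpec (hU.primeIdealOf ⟨x, hx⟩)) = _
    rw [hU.fromSpec_primeIdealOf]
  rw [← h]
  exact PrimeSpectrum.ext_iff

/-- The base map at a point over the closed point is local. -/
theorem isLocalHom_baseHom [IsLocalRing A] {T : Scheme.{u}} (g : T ⟶ Spec (CommRingCat.of A)) (t : T)
    (ht : g.base t = IsLocalRing.closedPoint A) : IsLocalHom (baseHom g t).hom := by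
  refine ((IsLocalRing.local_hom_TFAE _).out 4 0).mp ?_
  have h : (Spec.map (baseHom g t)) (IsLocalRing.closedPoint (T.presheaf.stalk t)) = g.base t := by
    rw [specMap_baseHom]
    show g.base (T.fromSpecStalk t (IsLocalRing.closedPoint (T.presheaf.stalk t))) = _
    rw [Scheme.fromSpecStalk_closedPoint]
  exact congrArg PrimeSpectrum.asIdeal (h.trans ht)

/-- The ideal of one point. -/
theorem exists_ideal_point [HenselianLocalRing A] (f : X ⟶ Spec (CommRingCat.of A)) [LocallyOfFiniteType f]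
    (F : X.Modules) [F.IsQuasicoherent] (hF : CohB1.IsFT F) (x : X) (hx : f.base x = IsLocalRing.closedPoint A) :
    ∃ I : Ideal A, FlatAlong f F {x} I := by
  obtain ⟨U, hU, hxU, -⟩ := exists_isAffineOpen_mem_and_subset (x := x) (U := ⊤) trivial
  obtain ⟨φ, hφ⟩ := exists_chartHom f hU
  letI := φ.hom.toAlgebra
  letI : Module A Γ(F, U) := Module.compHom _ φ.hom
  haveI : IsScalarTower A Γ(X, U) Γ(F, U) := IsScalarTower.of_algebraMap_smul fun _ _ => rfl
  haveI : Algebra.FiniteType A Γ(X, U) := by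
    have : LocallyOfFiniteType (Spec.map φ) := hφ ▸ inferInstance
    rwa [HasRingHomProperty.Spec_iff (P := @LocallyOfFiniteType)] at this
  haveI : SheafOfModules.IsFiniteType.{u} F := hF
  haveI : Module.Finite Γ(X, U) Γ(F, U) := Groth.Agent.QCoh.finite_sections_of_isFiniteType F hU
  haveI : (primeOf hU x hxU).LiesOver (IsLocalRing.maximalIdeal A) :=
    ⟨((primeOf_comap f hU φ hφ x hxU).mp hx).symm⟩
  obtain ⟨I, hI⟩ := exists_ideal (A := A) Γ(F, U) (primeOf hU x hxU)
  refine ⟨I, fun T g t ht => ?_⟩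
  letI := (baseHom g t).hom.toAlgebra
  haveI : IsLocalHom (algebraMap A (T.presheaf.stalk t)) := isLocalHom_baseHom g t ht
  refine Iff.trans ?_ (((flat_iff_good f F hU φ hφ g t x hxU).trans (hI (T.presheaf.stalk t))).trans (Ideal.map_eq_bot_iff_le_ker _))
  exact ⟨fun h x' h1 h2 => h x' h1 h2, fun h x' h1 h2 => h x' h1 h2⟩

/-- The ideal of a set is determined by the condition. -/
theorem le_of_flatAlong [IsLocalRing A] {f : X ⟶ Spec (CommRingCat.of A)} {F : X.Modules} {E : Set X}
    {I K : Ideal A} (hI : FlatAlong f F E I) (hK : FlatAlong f F E K) : I ≤ K := by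
  by_cases hK' : K = ⊤
  · exact hK' ▸ le_top
  haveI : Nontrivial (A ⧸ K) := Ideal.Quotient.nontrivial_iff.mpr hK'
  haveI : IsLocalRing (A ⧸ K) := IsLocalRing.of_surjective' (Ideal.Quotient.mk K) Ideal.Quotient.mk_surjective
  haveI : IsLocalHom (Ideal.Quotient.mk K) := IsLocalHom.of_surjective _ Ideal.Quotient.mk_surjective
  let T := Spec (CommRingCat.of (A ⧸ K))
  let g : T ⟶ Spec (CommRingCat.of A) := Spec.map (CommRingCat.ofHom (Ideal.Quotient.mk K))
  let t : T := IsLocalRing.closedPoint (A ⧸ K)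
  have ht : g.base t = IsLocalRing.closedPoint A := PrimeSpectrum.ext (IsLocalRing.maximalIdeal_comap (Ideal.Quotient.mk K))
  have hker : RingHom.ker (baseHom g t).hom = K := by
    ext a
    rw [RingHom.mem_ker, ← Ideal.Quotient.eq_zero_iff_mem]
    have hb : baseHom g t = CommRingCat.ofHom (Ideal.Quotient.mk K) ≫ (Scheme.ΓSpecIso (CommRingCat.of (A ⧸ K))).inv ≫
        T.presheaf.germ ⊤ t trivial := by
      rw [baseHom, Scheme.ΓSpecIso_inv_naturality_assoc]
    rw [hb]
    let s := (Scheme.ΓSpecIso (CommRingCat.of (A ⧸ K))).inv.hom (Ideal.Quotient.mk K a)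
    show T.presheaf.germ ⊤ t trivial s = 0 ↔ _
    refine ⟨fun h => ?_, fun h => ?_⟩
    · obtain ⟨W, htW, i₁, i₂, hW⟩ := T.presheaf.germ_eq (U := ⊤) (V := ⊤) t trivial trivial s 0 (h.trans (map_zero _).symm)
      have hWtop : W = ⊤ := top_le_iff.mp fun p _ =>
        ((PrimeSpectrum.le_iff_specializes p t).mp (IsLocalRing.le_maximalIdeal p.isPrime.ne_top)).mem_open W.2 htW
      subst hWtop
      rw [Subsingleton.elim i₁ (𝟙 _), map_zero, op_id, T.presheaf.map_id] at hW
      have h0 : s = 0 := hW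
      exact (Scheme.ΓSpecIso (CommRingCat.of (A ⧸ K))).commRingCatIsoToRingEquiv.symm.injective (h0.trans (map_zero _).symm)
    · rw [show s = 0 from by simp only [s, h, map_zero], map_zero]
  exact ((hI T g t ht).mp ((hK T g t ht).mpr hker.ge)).trans hker.le

/-- Existence, with finite generation. -/
theorem exists_ideal_along [HenselianLocalRing A] (f : X ⟶ Spec (CommRingCat.of A)) [LocallyOfFiniteType f]
    (F : X.Modules) [Coh.IsQCoh F] (hF : CohB1.IsFT F) (E : Set X)
    (hE : ∀ x ∈ E, f.base x = IsLocalRing.closedPoint A) :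
    ∃ I : Ideal A,
      (∀ (T : Scheme.{u}) (g : T ⟶ Spec (CommRingCat.of A)) (t : T), g.base t = IsLocalRing.closedPoint A →
        ((∀ x' : ↑(pullback f g), (pullback.snd f g).base x' = t → (pullback.fst f g).base x' ∈ E →
            FlatMod.IsFlatOverAt (pullback.snd f g) ((Scheme.Modules.pullback (pullback.fst f g)).obj F) x') ↔
          ∀ a ∈ I, (T.presheaf.germ ⊤ t trivial).hom
            (g.appTop.hom ((Scheme.ΓSpecIso (CommRingCat.of A)).inv.hom a)) = 0)) ∧
      (LocallyOfFinitePresentation f → CohB1.IsFP F → IsClosed E → IsCompact E → I.FG) := by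
  haveI : F.IsQuasicoherent := ‹Coh.IsQCoh F›
  choose J hJ using fun x : E => exists_ideal_point f F hF x.1 (hE x.1 x.2)
  have hI : FlatAlong f F E (⨆ x : E, J x) := by
    intro T g t ht
    rw [iSup_le_iff]
    exact ⟨fun h x => (hJ x T g t ht).mp fun x' h1 h2 => h x' h1 (by rw [Set.mem_singleton_iff.mp h2]; exact x.2),
      fun h x' h1 h2 => (hJ ⟨_, h2⟩ T g t ht).mpr (h ⟨_, h2⟩) x' h1 rfl⟩
  refine ⟨⨆ x : E, J x, fun T g t ht => hI T g t ht, fun hf hFP hEcl hEc => ?_⟩
  choose U hU hxU using fun x : E =>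
    (exists_isAffineOpen_mem_and_subset (x := x.1) (U := ⊤) trivial).imp fun U h => (⟨h.1, h.2.1⟩ : ∃ _ : IsAffineOpen U, x.1 ∈ U)
  obtain ⟨s, hs⟩ := hEc.elim_finite_subcover (fun x : E => (U x : Set X)) (fun x => (U x).2)
    fun x hx => Set.mem_iUnion.mpr ⟨⟨x, hx⟩, hxU _⟩
  have key : ∀ i : E, ∃ K : Ideal A, K.FG ∧ FlatAlong f F (E ∩ U i) K := by
    intro i
    obtain ⟨φ, hφ⟩ := exists_chartHom f (hU i)
    letI := φ.hom.toAlgebra
    letI : Module A Γ(F, U i) := Module.compHom _ φ.hom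
    haveI : IsScalarTower A Γ(X, U i) Γ(F, U i) := IsScalarTower.of_algebraMap_smul fun _ _ => rfl
    haveI : Algebra.FinitePresentation A Γ(X, U i) := by
      have : LocallyOfFinitePresentation (Spec.map φ) := hφ ▸ (haveI := hf; inferInstance)
      rwa [HasRingHomProperty.Spec_iff (P := @LocallyOfFinitePresentation)] at this
    haveI : Module.FinitePresentation Γ(X, U i) Γ(F, U i) :=
      (Groth.Agent.Props.QFP.isFP_iff F).1 hFP (U i) (hU i)
    haveI : Algebra.FiniteType A Γ(X, U i) := inferInstance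
    obtain ⟨Jc, hJc⟩ := (PrimeSpectrum.isClosed_iff_zeroLocus_ideal _).mp (hEcl.preimage (hU i).fromSpec.continuous)
    have hmem : ∀ q : PrimeSpectrum Γ(X, U i), Jc ≤ q.asIdeal ↔ (hU i).fromSpec q ∈ E := fun q => by
      have h := Set.ext_iff.mp hJc q
      exact h.symm
    let Q := {q : PrimeSpectrum Γ(X, U i) // Jc ≤ q.asIdeal ∧ q.asIdeal.comap (algebraMap A Γ(X, U i)) = IsLocalRing.maximalIdeal A}
    have hpt : ∀ q : Q, ∃ I' : Ideal A, ∀ (A' : Type u) [CommRing A'] [IsLocalRing A'] [Algebra A A']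
        [IsLocalHom (algebraMap A A')],
        Groth.Agent.FlatLocusIdeal.Good A q.1.asIdeal Γ(F, U i) A' ↔ I'.map (algebraMap A A') = ⊥ := fun q =>
      haveI : q.1.asIdeal.LiesOver (IsLocalRing.maximalIdeal A) := ⟨q.2.2.symm⟩
      exists_ideal (A := A) Γ(F, U i) q.1.asIdeal
    choose I' hI' using hpt
    refine ⟨⨆ q, I' q, ?_, ?_⟩
    · refine fg_of_stages (A := A) Γ(F, U i) _ Jc fun A' _ _ _ _ => ?_
      simp only [Ideal.map_eq_bot_iff_le_ker, iSup_le_iff]
      exact ⟨fun h q => (Ideal.map_eq_bot_iff_le_ker _).mp ((hI' q A').mp (h q.1.asIdeal q.2.2 q.2.1)),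
        fun h q hq hqm hqJ => (hI' ⟨⟨q, hq⟩, hqJ, hqm⟩ A').mpr ((Ideal.map_eq_bot_iff_le_ker _).mpr (h _))⟩
    · intro T g t ht
      letI := (baseHom g t).hom.toAlgebra
      haveI : IsLocalHom (algebraMap A (T.presheaf.stalk t)) := isLocalHom_baseHom g t ht
      rw [iSup_le_iff]
      constructor
      · intro h q
        have hy : (hU i).fromSpec q.1 ∈ U i := (hU i).range_fromSpec.subset ⟨q.1, rfl⟩
        have hq : (hU i).primeIdealOf ⟨_, hy⟩ = q.1 := (hU i).fromSpec.isOpenEmbedding.injective ((hU i).fromSpec_primeIdealOf _)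
        have h1 := (flat_iff_good f F (hU i) φ hφ g t _ hy).mp fun x' h1 h2 =>
          h x' h1 (by rw [h2]; exact ⟨(hmem q.1).mp q.2.1, hy⟩)
        rw [show primeOf (hU i) _ hy = q.1.asIdeal from congrArg PrimeSpectrum.asIdeal hq] at h1
        exact (Ideal.map_eq_bot_iff_le_ker _).mp ((hI' q (T.presheaf.stalk t)).mp h1)
      · intro h x' h1 h2
        let q : PrimeSpectrum Γ(X, U i) := (hU i).primeIdealOf ⟨_, h2.2⟩
        have hq1 : Jc ≤ q.asIdeal := (hmem q).mpr (by rw [(hU i).fromSpec_primeIdealOf]; exact h2.1)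
        have hq2 := (primeOf_comap f (hU i) φ hφ _ h2.2).mp (hE _ h2.1)
        exact (flat_iff_good f F (hU i) φ hφ g t _ h2.2).mpr
          ((hI' ⟨q, hq1, hq2⟩ (T.presheaf.stalk t)).mpr ((Ideal.map_eq_bot_iff_le_ker _).mpr (h _))) x' h1 rfl
  choose K hKfg hK using key
  have hsup : FlatAlong f F E (⨆ i ∈ s, K i) := by
    intro T g t ht
    rw [iSup₂_le_iff]
    refine ⟨fun h i _ => (hK i T g t ht).mp fun x' h1 h2 => h x' h1 h2.1, fun h x' h1 h2 => ?_⟩
    obtain ⟨i, hi, hxi⟩ := Set.mem_iUnion₂.mp (hs h2)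
    exact (hK i T g t ht).mpr (h i hi) x' h1 ⟨h2, hxi⟩
  rw [le_antisymm (le_of_flatAlong hI hsup) (le_of_flatAlong hsup hI)]
  exact Submodule.fg_biSup s _ fun i _ => hKfg i

end Groth.Agent.FlatLocusE
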