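import Groth.Agent.FlatLocusE.Alg
import Groth.Agent.FDesc.BaseChangeStalk
import Groth.Agent.FlatOpen.Scheme
import Mathlib.AlgebraicGeometry.Morphisms.UniversallyInjective
import Mathlib.AlgebraicGeometry.Morphisms.Preimmersion

/-!
# The flattening ideal along a subset of the closed fibre: reading flatness on stalks
-/

set_option autoImplicit false
set_option linter.style.haveILetI false

universe u

open CategoryTheory CategoryTheory.Limits AlgebraicGeometry TopologicalSpace Opposite
open scoped TensorProduct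
open Groth.Agent.AssSch.Stalk

attribute [local instance] Algebra.TensorProduct.rightAlgebra

namespace Groth.Agent.FlatLocusE

/-- Flatness of the base-changed stalk is flatness at the prime below. -/
theorem flat_iff_flatAt_comap {R B B₁ C : Type u} [CommRing R] [CommRing B] [CommRing B₁] [CommRing C]
    [IsLocalRing C] [Algebra B B₁] [Algebra B C] [Algebra B₁ C] [IsScalarTower B B₁ C] [Module.Flat B₁ C]
    [Algebra R B₁] [Algebra R C] [IsScalarTower R B₁ C]
    (N : Type u) [AddCommGroup N] [Module B N]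
    (M' : Type u) [AddCommGroup M'] [Module C M'] [Module R M'] [IsScalarTower R C M'] [Module B M']
    [IsScalarTower B C M'] (f : N →ₗ[B] M') (hf : IsBaseChange C f) (P : Ideal B₁) [P.IsPrime]
    (hP : (IsLocalRing.maximalIdeal C).comap (algebraMap B₁ C) = P) :
    Module.Flat R M' ↔ FlatCA.FlatAt R P (B₁ ⊗[B] N) := by
  haveI : (IsLocalRing.maximalIdeal C).LiesOver P := ⟨hP.symm⟩
  refine Iff.trans ?_ (Groth.Agent.FlatLocusIdeal.flatAt_iff_tensor (A' := R) N M' f hf P (IsLocalRing.maximalIdeal C))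
  have hb : Function.Bijective (LocalizedModule.mkLinearMap (IsLocalRing.maximalIdeal C).primeCompl M') :=
    FlatMor.FlatAtBC.bijective_of_isLocalizedModule (IsLocalRing.maximalIdeal C).primeCompl _ fun t =>
      (IsLocalRing.notMem_maximalIdeal.mp t.2).map _
  let e := (LinearEquiv.ofBijective _ hb).restrictScalars R
  exact ⟨fun h => Module.Flat.of_linearEquiv e.symm, fun h => (haveI : Module.Flat R (LocalizedModule (IsLocalRing.maximalIdeal C).primeCompl M') := h; Module.Flat.of_linearEquiv e)⟩

variable {A : Type u} [CommRing A] {X T : Scheme.{u}} {f : X ⟶ Spec (CommRingCat.of A)} {U : X.Opens}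
  (hU : IsAffineOpen U) (φ : CommRingCat.of A ⟶ Γ(X, U)) (hφ : Spec.map φ = hU.fromSpec ≫ f)
  {g : T ⟶ Spec (CommRingCat.of A)} (t : T) (ρ : CommRingCat.of A ⟶ T.presheaf.stalk t)
  (hρ : Spec.map ρ = T.fromSpecStalk t ≫ g)

/-- The map of the affine chart to the base change. -/
noncomputable def chartMap :
    letI := φ.hom.toAlgebra
    letI := ρ.hom.toAlgebra
    Spec (CommRingCat.of (T.presheaf.stalk t ⊗[A] Γ(X, U))) ⟶ pullback f g :=
  letI := φ.hom.toAlgebra
  letI := ρ.hom.toAlgebra
  pullback.lift (Spec.map (CommRingCat.ofHom (algebraMap Γ(X, U) (T.presheaf.stalk t ⊗[A] Γ(X, U)))) ≫ hU.fromSpec)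
    (Spec.map (CommRingCat.ofHom (algebraMap (T.presheaf.stalk t) (T.presheaf.stalk t ⊗[A] Γ(X, U)))) ≫ T.fromSpecStalk t)
    (by
      rw [Category.assoc, Category.assoc, ← hφ, ← hρ, ← Spec.map_comp, ← Spec.map_comp]
      congr 1
      ext a
      exact (Algebra.TensorProduct.tmul_one_eq_one_tmul a).symm)

/-- The chart map is a monomorphism. -/
theorem mono_chartMap :
    letI := φ.hom.toAlgebra
    letI := ρ.hom.toAlgebra
    Mono (chartMap hU φ hφ t ρ hρ) := by
  letI := φ.hom.toAlgebra
  letI := ρ.hom.toAlgebra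
  refine ⟨fun a b hab => ?_⟩
  have h1 := congrArg (· ≫ pullback.fst f g) hab
  have h2 := congrArg (· ≫ pullback.snd f g) hab
  simp only [chartMap, Category.assoc, pullback.lift_fst, pullback.lift_snd] at h1 h2
  rw [← Category.assoc, ← Category.assoc, cancel_mono] at h1 h2
  rw [← cancel_mono (pullbackSpecIso A (T.presheaf.stalk t) Γ(X, U)).inv]
  apply pullback.hom_ext
  · simp only [Category.assoc, pullbackSpecIso_inv_fst']
    exact h2
  · simp only [Category.assoc, pullbackSpecIso_inv_snd]
    exact h1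

/-- The chart map on points: the image of a point and its two traces. -/
theorem chartMap_point (P : PrimeSpectrum (letI := φ.hom.toAlgebra; letI := ρ.hom.toAlgebra; T.presheaf.stalk t ⊗[A] Γ(X, U))) :
    letI := φ.hom.toAlgebra
    letI := ρ.hom.toAlgebra
    (pullback.fst f g) ((chartMap hU φ hφ t ρ hρ) P) =
        hU.fromSpec (PrimeSpectrum.comap (algebraMap Γ(X, U) (T.presheaf.stalk t ⊗[A] Γ(X, U))) P) ∧
      (pullback.snd f g) ((chartMap hU φ hφ t ρ hρ) P) =
        T.fromSpecStalk t (PrimeSpectrum.comap (algebraMap (T.presheaf.stalk t) (T.presheaf.stalk t ⊗[A] Γ(X, U))) P) := by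
  letI := φ.hom.toAlgebra
  letI := ρ.hom.toAlgebra
  constructor
  · show (chartMap hU φ hφ t ρ hρ ≫ pullback.fst f g) P = _
    rw [chartMap, pullback.lift_fst]
    rfl
  · show (chartMap hU φ hφ t ρ hρ ≫ pullback.snd f g) P = _
    rw [chartMap, pullback.lift_snd]
    rfl

/-- Flatness of the pulled back module at a point read on the chart. -/
theorem exists_prime_chart (F : X.Modules) [F.IsQuasicoherent] (x' : ↑(pullback f g))
    (hs : (pullback.snd f g) x' = t) (hx : (pullback.fst f g) x' ∈ U) :
    letI := φ.hom.toAlgebra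
    letI := ρ.hom.toAlgebra
    letI : Module A Γ(F, U) := Module.compHom _ φ.hom
    haveI : IsScalarTower A Γ(X, U) Γ(F, U) := IsScalarTower.of_algebraMap_smul fun _ _ => rfl
    ∃ P : PrimeSpectrum (T.presheaf.stalk t ⊗[A] Γ(X, U)), (chartMap hU φ hφ t ρ hρ) P = x' ∧
      P.asIdeal.comap (algebraMap Γ(X, U) (T.presheaf.stalk t ⊗[A] Γ(X, U))) = primeOf hU ((pullback.fst f g) x') hx ∧
      P.asIdeal.comap (algebraMap (T.presheaf.stalk t) (T.presheaf.stalk t ⊗[A] Γ(X, U))) = IsLocalRing.maximalIdeal _ ∧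
      (FlatMod.IsFlatOverAt (pullback.snd f g) ((Scheme.Modules.pullback (pullback.fst f g)).obj F) x' ↔
        FlatCA.FlatAt (T.presheaf.stalk t) P.asIdeal ((T.presheaf.stalk t ⊗[A] Γ(X, U)) ⊗[Γ(X, U)] Γ(F, U))) := by
  subst hs
  letI := φ.hom.toAlgebra
  letI := ρ.hom.toAlgebra
  letI : Module A Γ(F, U) := Module.compHom _ φ.hom
  haveI : IsScalarTower A Γ(X, U) Γ(F, U) := IsScalarTower.of_algebraMap_smul fun _ _ => rfl
  let p := pullback.fst f g
  let q := pullback.snd f g
  let B := Γ(X, U)
  let R := T.presheaf.stalk (q x')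
  let C := (pullback f g).presheaf.stalk x'
  let rC := q.stalkMap x'
  let bC := X.presheaf.germ U (p x') hx ≫ p.stalkMap x'
  have hcomm : ρ ≫ rC = φ ≫ bC := by
    apply Spec.map_injective
    rw [Spec.map_comp, Spec.map_comp, hρ, hφ, ← Category.assoc, Scheme.SpecMap_stalkMap_fromSpecStalk]
    simp only [bC, Spec.map_comp, Category.assoc]
    show _ = Spec.map (p.stalkMap x') ≫ hU.fromSpecStalk hx ≫ f
    rw [hU.fromSpecStalk_eq_fromSpecStalk, ← Category.assoc (Spec.map _), Scheme.SpecMap_stalkMap_fromSpecStalk,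
      Category.assoc, pullback.condition]
  letI : Algebra B C := bC.hom.toAlgebra
  letI : Algebra R C := rC.hom.toAlgebra
  letI : Algebra A C := (ρ ≫ rC).hom.toAlgebra
  haveI : IsScalarTower A R C := IsScalarTower.of_algebraMap_eq' rfl
  haveI : IsScalarTower A B C := IsScalarTower.of_algebraMap_eq' (congrArg CommRingCat.Hom.hom hcomm)
  let ψ : R ⊗[A] B →ₐ[A] C := Algebra.TensorProduct.lift (IsScalarTower.toAlgHom A R C)
    (IsScalarTower.toAlgHom A B C) fun _ _ => Commute.all _ _
  have hψl : CommRingCat.ofHom (algebraMap R (R ⊗[A] B)) ≫ CommRingCat.ofHom ψ.toRingHom = rC := by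
    ext a
    show ψ (a ⊗ₜ[A] (1 : B)) = _
    rw [Algebra.TensorProduct.lift_tmul, map_one, mul_one]
    rfl
  have hψr : CommRingCat.ofHom (algebraMap B (R ⊗[A] B)) ≫ CommRingCat.ofHom ψ.toRingHom = bC := by
    ext a
    show ψ ((1 : R) ⊗ₜ[A] a) = _
    rw [Algebra.TensorProduct.lift_tmul, map_one, one_mul]
    rfl
  let k := chartMap hU φ hφ (q x') ρ hρ
  have hk : Spec.map (CommRingCat.ofHom ψ.toRingHom) ≫ k = (pullback f g).fromSpecStalk x' := by
    apply pullback.hom_ext
    · simp only [k, chartMap, Category.assoc, pullback.lift_fst]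
      rw [← Category.assoc, ← Spec.map_comp]
      erw [hψr]
      simp only [bC, Spec.map_comp, Category.assoc]
      show Spec.map (p.stalkMap x') ≫ hU.fromSpecStalk hx = _
      rw [hU.fromSpecStalk_eq_fromSpecStalk, Scheme.SpecMap_stalkMap_fromSpecStalk]
    · simp only [k, chartMap, Category.assoc, pullback.lift_snd]
      rw [← Category.assoc, ← Spec.map_comp]
      erw [hψl]
      exact Scheme.SpecMap_stalkMap_fromSpecStalk q
  haveI : Mono k := mono_chartMap hU φ hφ (q x') ρ hρ
  have hflat : ψ.toRingHom.Flat := by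
    have hsq : IsPullback (Spec.map (CommRingCat.ofHom ψ.toRingHom)) (𝟙 _) k ((pullback f g).fromSpecStalk x') := by
      refine ⟨⟨by rw [hk, Category.id_comp]⟩, ⟨PullbackCone.IsLimit.mk _ (fun s => s.snd) (fun s => ?_) (fun s => Category.comp_id _) fun s m h1 h2 => ?_⟩⟩
      · rw [← cancel_mono k, Category.assoc, hk]
        exact s.condition.symm
      · rw [← h2, Category.comp_id]
    have h : Flat (Spec.map (CommRingCat.ofHom ψ.toRingHom)) :=
      MorphismProperty.of_isPullback (P := @Flat) hsq.flip (Groth.Agent.FDesc.BaseChangeStalk.flat_fromSpecStalk x')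
    rwa [HasRingHomProperty.Spec_iff (P := @Flat)] at h
  let P : PrimeSpectrum (R ⊗[A] B) := PrimeSpectrum.comap ψ.toRingHom (IsLocalRing.closedPoint C)
  have hPx : k P = x' := by
    show (Spec.map (CommRingCat.ofHom ψ.toRingHom) ≫ k) (IsLocalRing.closedPoint C) = x'
    rw [hk]
    exact Scheme.fromSpecStalk_closedPoint
  letI : Algebra (R ⊗[A] B) C := ψ.toRingHom.toAlgebra
  haveI : Module.Flat (R ⊗[A] B) C := hflat
  haveI : IsScalarTower B (R ⊗[A] B) C :=
    IsScalarTower.of_algebraMap_eq' (congrArg CommRingCat.Hom.hom hψr).symm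
  haveI : IsScalarTower R (R ⊗[A] B) C :=
    IsScalarTower.of_algebraMap_eq' (congrArg CommRingCat.Hom.hom hψl).symm
  refine ⟨P, hPx, ?_, ?_, ?_⟩
  · show ((IsLocalRing.maximalIdeal C).comap ψ.toRingHom).comap (algebraMap B (R ⊗[A] B)) = _
    rw [Ideal.comap_comap, show ψ.toRingHom.comp (algebraMap B (R ⊗[A] B)) = bC.hom from congrArg CommRingCat.Hom.hom hψr]
    show (IsLocalRing.maximalIdeal C).comap ((p.stalkMap x').hom.comp (X.presheaf.germ U (p x') hx).hom) = _
    rw [← Ideal.comap_comap, IsLocalRing.maximalIdeal_comap]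
    letI : Algebra Γ(X, U) (X.presheaf.stalk (p x')) := (X.presheaf.germ U (p x') hx).hom.toAlgebra
    haveI : IsLocalization.AtPrime (X.presheaf.stalk (p x')) (primeOf hU (p x') hx) :=
      hU.isLocalization_stalk ⟨p x', hx⟩
    exact IsLocalization.AtPrime.under_maximalIdeal (X.presheaf.stalk (p x')) (primeOf hU (p x') hx)
  · show ((IsLocalRing.maximalIdeal C).comap ψ.toRingHom).comap (algebraMap R (R ⊗[A] B)) = _
    rw [Ideal.comap_comap, show ψ.toRingHom.comp (algebraMap R (R ⊗[A] B)) = rC.hom from congrArg CommRingCat.Hom.hom hψl]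
    exact IsLocalRing.maximalIdeal_comap _
  · let M' := ((Scheme.Modules.pullback p).obj F).presheaf.stalk x'
    letI : Module R M' := FlatMod.moduleStalkOver q ((Scheme.Modules.pullback p).obj F) x'
    haveI : IsScalarTower R C M' := IsScalarTower.of_algebraMap_smul fun _ _ => rfl
    letI : Algebra B (X.presheaf.stalk (p x')) := (X.presheaf.germ U (p x') hx).hom.toAlgebra
    letI : Algebra (X.presheaf.stalk (p x')) C := (p.stalkMap x').hom.toAlgebra
    letI : Module B (F.presheaf.stalk (p x')) := Module.compHom _ (X.presheaf.germ U (p x') hx).hom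
    letI : Module B M' := Module.compHom _ bC.hom
    letI := Groth.Agent.PullStalk.Basic.moduleOver p F x'
    haveI : IsScalarTower B C M' := IsScalarTower.of_algebraMap_smul fun _ _ => rfl
    haveI : IsScalarTower B (X.presheaf.stalk (p x')) C := IsScalarTower.of_algebraMap_eq' rfl
    haveI : IsScalarTower B (X.presheaf.stalk (p x')) (F.presheaf.stalk (p x')) :=
      IsScalarTower.of_algebraMap_smul fun _ _ => rfl
    haveI : IsScalarTower (X.presheaf.stalk (p x')) C M' := IsScalarTower.of_algebraMap_smul fun _ _ => rfl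
    haveI : IsScalarTower B (X.presheaf.stalk (p x')) M' := IsScalarTower.of_algebraMap_smul fun _ _ => rfl
    haveI : IsLocalization.AtPrime (X.presheaf.stalk (p x')) (primeOf hU (p x') hx) :=
      hU.isLocalization_stalk ⟨p x', hx⟩
    haveI := isLocalizedModule_germLinear F hU (p x') hx
    have hb : IsBaseChange (X.presheaf.stalk (p x')) (germLinear F (p x') hx) :=
      IsLocalizedModule.isBaseChange (primeOf hU (p x') hx).primeCompl _ _
    have hc := hb.comp (Groth.Agent.PullStalk.Basic.isBaseChange_unitStalk p F x')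
    exact flat_iff_flatAt_comap (R := R) (B := B) (B₁ := R ⊗[A] B) (C := C) Γ(F, U) M' _ hc P.asIdeal rfl

end Groth.Agent.FlatLocusE
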